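import Cfsg.Agent.Lib.H17.HeN22.Lower
import Cfsg.Agent.Lib.H17.HeN22.OrbChk

set_option autoImplicit false
set_option maxRecDepth 100000

/-! # Orbits of the subgroup on its cosets, HeN22 (generated) -/

namespace Cfsg.Agent.Lib.H17.HeN22

open Cfsg.Spor Cfsg.Agent.Lib.H17.CosetCert Cfsg.Agent.Lib.H17.CoxGlue Cfsg.Agent.Lib.H17.HeGlue

theorem oclosedL0 : ∀ i < 8330, tb omask0 i = true → ∀ ts ∈ sgT, tb omask0 (applyTG L ts i) = true := by
  intro i hi
  have hc : i / 500 < 17 := by omega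
  interval_cases hq : i / 500
  · exact checkClosedG_sound L _ _ _ _ oclosed0_0 i (by omega) (by omega)
  · exact checkClosedG_sound L _ _ _ _ oclosed0_1 i (by omega) (by omega)
  · exact checkClosedG_sound L _ _ _ _ oclosed0_2 i (by omega) (by omega)
  · exact checkClosedG_sound L _ _ _ _ oclosed0_3 i (by omega) (by omega)
  · exact checkClosedG_sound L _ _ _ _ oclosed0_4 i (by omega) (by omega)
  · exact checkClosedG_sound L _ _ _ _ oclosed0_5 i (by omega) (by omega)
  · exact checkClosedG_sound L _ _ _ _ oclosed0_6 i (by omega) (by omega)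
  · exact checkClosedG_sound L _ _ _ _ oclosed0_7 i (by omega) (by omega)
  · exact checkClosedG_sound L _ _ _ _ oclosed0_8 i (by omega) (by omega)
  · exact checkClosedG_sound L _ _ _ _ oclosed0_9 i (by omega) (by omega)
  · exact checkClosedG_sound L _ _ _ _ oclosed0_10 i (by omega) (by omega)
  · exact checkClosedG_sound L _ _ _ _ oclosed0_11 i (by omega) (by omega)
  · exact checkClosedG_sound L _ _ _ _ oclosed0_12 i (by omega) (by omega)
  · exact checkClosedG_sound L _ _ _ _ oclosed0_13 i (by omega) (by omega)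
  · exact checkClosedG_sound L _ _ _ _ oclosed0_14 i (by omega) (by omega)
  · exact checkClosedG_sound L _ _ _ _ oclosed0_15 i (by omega) (by omega)
  · exact checkClosedG_sound L _ _ _ _ oclosed0_16 i (by omega) (by omega)

theorem oclosed0 : ∀ i < 8330, tb omask0 i = true → ∀ ts ∈ sgT, tb omask0 (applyT 14 16384 ts i) = true := by
  intro i hi hb ts hts
  have := oclosedL0 i hi hb ts hts
  rw [applyL_eq] at this
  exact this

theorem oconnL0 : ∀ i < 8330, tb omask0 i = true → i ≠ 8 → ∃ ts ∈ sgT, tb omask0 (applyTG L ts i) = true ∧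
    L hr (applyTG L ts i) < L hr i := by
  intro i hi
  have hc : i / 500 < 17 := by omega
  interval_cases hq : i / 500
  · exact checkOrbConnG_sound L _ _ _ _ _ _ oconn0_0 i (by omega) (by omega)
  · exact checkOrbConnG_sound L _ _ _ _ _ _ oconn0_1 i (by omega) (by omega)
  · exact checkOrbConnG_sound L _ _ _ _ _ _ oconn0_2 i (by omega) (by omega)
  · exact checkOrbConnG_sound L _ _ _ _ _ _ oconn0_3 i (by omega) (by omega)
  · exact checkOrbConnG_sound L _ _ _ _ _ _ oconn0_4 i (by omega) (by omega)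
  · exact checkOrbConnG_sound L _ _ _ _ _ _ oconn0_5 i (by omega) (by omega)
  · exact checkOrbConnG_sound L _ _ _ _ _ _ oconn0_6 i (by omega) (by omega)
  · exact checkOrbConnG_sound L _ _ _ _ _ _ oconn0_7 i (by omega) (by omega)
  · exact checkOrbConnG_sound L _ _ _ _ _ _ oconn0_8 i (by omega) (by omega)
  · exact checkOrbConnG_sound L _ _ _ _ _ _ oconn0_9 i (by omega) (by omega)
  · exact checkOrbConnG_sound L _ _ _ _ _ _ oconn0_10 i (by omega) (by omega)
  · exact checkOrbConnG_sound L _ _ _ _ _ _ oconn0_11 i (by omega) (by omega)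
  · exact checkOrbConnG_sound L _ _ _ _ _ _ oconn0_12 i (by omega) (by omega)
  · exact checkOrbConnG_sound L _ _ _ _ _ _ oconn0_13 i (by omega) (by omega)
  · exact checkOrbConnG_sound L _ _ _ _ _ _ oconn0_14 i (by omega) (by omega)
  · exact checkOrbConnG_sound L _ _ _ _ _ _ oconn0_15 i (by omega) (by omega)
  · exact checkOrbConnG_sound L _ _ _ _ _ _ oconn0_16 i (by omega) (by omega)

theorem oconn0 : ∀ i < 8330, tb omask0 i = true → i ≠ 8 → ∃ ts ∈ sgT, tb omask0 (applyT 14 16384 ts i) = true ∧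
    lk 14 16384 hr (applyT 14 16384 ts i) < lk 14 16384 hr i := by
  intro i hi hb hp
  obtain ⟨ts, hts, h1, h2⟩ := oconnL0 i hi hb hp
  simp only [L_eq, applyL_eq] at h1 h2
  exact ⟨ts, hts, h1, h2⟩

theorem oclosedL1 : ∀ i < 8330, tb omask1 i = true → ∀ ts ∈ sgT, tb omask1 (applyTG L ts i) = true := by
  intro i hi
  have hc : i / 500 < 17 := by omega
  interval_cases hq : i / 500
  · exact checkClosedG_sound L _ _ _ _ oclosed1_0 i (by omega) (by omega)
  · exact checkClosedG_sound L _ _ _ _ oclosed1_1 i (by omega) (by omega)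
  · exact checkClosedG_sound L _ _ _ _ oclosed1_2 i (by omega) (by omega)
  · exact checkClosedG_sound L _ _ _ _ oclosed1_3 i (by omega) (by omega)
  · exact checkClosedG_sound L _ _ _ _ oclosed1_4 i (by omega) (by omega)
  · exact checkClosedG_sound L _ _ _ _ oclosed1_5 i (by omega) (by omega)
  · exact checkClosedG_sound L _ _ _ _ oclosed1_6 i (by omega) (by omega)
  · exact checkClosedG_sound L _ _ _ _ oclosed1_7 i (by omega) (by omega)
  · exact checkClosedG_sound L _ _ _ _ oclosed1_8 i (by omega) (by omega)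
  · exact checkClosedG_sound L _ _ _ _ oclosed1_9 i (by omega) (by omega)
  · exact checkClosedG_sound L _ _ _ _ oclosed1_10 i (by omega) (by omega)
  · exact checkClosedG_sound L _ _ _ _ oclosed1_11 i (by omega) (by omega)
  · exact checkClosedG_sound L _ _ _ _ oclosed1_12 i (by omega) (by omega)
  · exact checkClosedG_sound L _ _ _ _ oclosed1_13 i (by omega) (by omega)
  · exact checkClosedG_sound L _ _ _ _ oclosed1_14 i (by omega) (by omega)
  · exact checkClosedG_sound L _ _ _ _ oclosed1_15 i (by omega) (by omega)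
  · exact checkClosedG_sound L _ _ _ _ oclosed1_16 i (by omega) (by omega)

theorem oclosed1 : ∀ i < 8330, tb omask1 i = true → ∀ ts ∈ sgT, tb omask1 (applyT 14 16384 ts i) = true := by
  intro i hi hb ts hts
  have := oclosedL1 i hi hb ts hts
  rw [applyL_eq] at this
  exact this

theorem oconnL1 : ∀ i < 8330, tb omask1 i = true → i ≠ 1 → ∃ ts ∈ sgT, tb omask1 (applyTG L ts i) = true ∧
    L hr (applyTG L ts i) < L hr i := by
  intro i hi
  have hc : i / 500 < 17 := by omega
  interval_cases hq : i / 500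
  · exact checkOrbConnG_sound L _ _ _ _ _ _ oconn1_0 i (by omega) (by omega)
  · exact checkOrbConnG_sound L _ _ _ _ _ _ oconn1_1 i (by omega) (by omega)
  · exact checkOrbConnG_sound L _ _ _ _ _ _ oconn1_2 i (by omega) (by omega)
  · exact checkOrbConnG_sound L _ _ _ _ _ _ oconn1_3 i (by omega) (by omega)
  · exact checkOrbConnG_sound L _ _ _ _ _ _ oconn1_4 i (by omega) (by omega)
  · exact checkOrbConnG_sound L _ _ _ _ _ _ oconn1_5 i (by omega) (by omega)
  · exact checkOrbConnG_sound L _ _ _ _ _ _ oconn1_6 i (by omega) (by omega)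
  · exact checkOrbConnG_sound L _ _ _ _ _ _ oconn1_7 i (by omega) (by omega)
  · exact checkOrbConnG_sound L _ _ _ _ _ _ oconn1_8 i (by omega) (by omega)
  · exact checkOrbConnG_sound L _ _ _ _ _ _ oconn1_9 i (by omega) (by omega)
  · exact checkOrbConnG_sound L _ _ _ _ _ _ oconn1_10 i (by omega) (by omega)
  · exact checkOrbConnG_sound L _ _ _ _ _ _ oconn1_11 i (by omega) (by omega)
  · exact checkOrbConnG_sound L _ _ _ _ _ _ oconn1_12 i (by omega) (by omega)
  · exact checkOrbConnG_sound L _ _ _ _ _ _ oconn1_13 i (by omega) (by omega)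
  · exact checkOrbConnG_sound L _ _ _ _ _ _ oconn1_14 i (by omega) (by omega)
  · exact checkOrbConnG_sound L _ _ _ _ _ _ oconn1_15 i (by omega) (by omega)
  · exact checkOrbConnG_sound L _ _ _ _ _ _ oconn1_16 i (by omega) (by omega)

theorem oconn1 : ∀ i < 8330, tb omask1 i = true → i ≠ 1 → ∃ ts ∈ sgT, tb omask1 (applyT 14 16384 ts i) = true ∧
    lk 14 16384 hr (applyT 14 16384 ts i) < lk 14 16384 hr i := by
  intro i hi hb hp
  obtain ⟨ts, hts, h1, h2⟩ := oconnL1 i hi hb hp
  simp only [L_eq, applyL_eq] at h1 h2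
  exact ⟨ts, hts, h1, h2⟩

theorem oclosedL2 : ∀ i < 8330, tb omask2 i = true → ∀ ts ∈ sgT, tb omask2 (applyTG L ts i) = true := by
  intro i hi
  have hc : i / 500 < 17 := by omega
  interval_cases hq : i / 500
  · exact checkClosedG_sound L _ _ _ _ oclosed2_0 i (by omega) (by omega)
  · exact checkClosedG_sound L _ _ _ _ oclosed2_1 i (by omega) (by omega)
  · exact checkClosedG_sound L _ _ _ _ oclosed2_2 i (by omega) (by omega)
  · exact checkClosedG_sound L _ _ _ _ oclosed2_3 i (by omega) (by omega)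
  · exact checkClosedG_sound L _ _ _ _ oclosed2_4 i (by omega) (by omega)
  · exact checkClosedG_sound L _ _ _ _ oclosed2_5 i (by omega) (by omega)
  · exact checkClosedG_sound L _ _ _ _ oclosed2_6 i (by omega) (by omega)
  · exact checkClosedG_sound L _ _ _ _ oclosed2_7 i (by omega) (by omega)
  · exact checkClosedG_sound L _ _ _ _ oclosed2_8 i (by omega) (by omega)
  · exact checkClosedG_sound L _ _ _ _ oclosed2_9 i (by omega) (by omega)
  · exact checkClosedG_sound L _ _ _ _ oclosed2_10 i (by omega) (by omega)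
  · exact checkClosedG_sound L _ _ _ _ oclosed2_11 i (by omega) (by omega)
  · exact checkClosedG_sound L _ _ _ _ oclosed2_12 i (by omega) (by omega)
  · exact checkClosedG_sound L _ _ _ _ oclosed2_13 i (by omega) (by omega)
  · exact checkClosedG_sound L _ _ _ _ oclosed2_14 i (by omega) (by omega)
  · exact checkClosedG_sound L _ _ _ _ oclosed2_15 i (by omega) (by omega)
  · exact checkClosedG_sound L _ _ _ _ oclosed2_16 i (by omega) (by omega)

theorem oclosed2 : ∀ i < 8330, tb omask2 i = true → ∀ ts ∈ sgT, tb omask2 (applyT 14 16384 ts i) = true := by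
  intro i hi hb ts hts
  have := oclosedL2 i hi hb ts hts
  rw [applyL_eq] at this
  exact this

theorem oconnL2 : ∀ i < 8330, tb omask2 i = true → i ≠ 26 → ∃ ts ∈ sgT, tb omask2 (applyTG L ts i) = true ∧
    L hr (applyTG L ts i) < L hr i := by
  intro i hi
  have hc : i / 500 < 17 := by omega
  interval_cases hq : i / 500
  · exact checkOrbConnG_sound L _ _ _ _ _ _ oconn2_0 i (by omega) (by omega)
  · exact checkOrbConnG_sound L _ _ _ _ _ _ oconn2_1 i (by omega) (by omega)
  · exact checkOrbConnG_sound L _ _ _ _ _ _ oconn2_2 i (by omega) (by omega)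
  · exact checkOrbConnG_sound L _ _ _ _ _ _ oconn2_3 i (by omega) (by omega)
  · exact checkOrbConnG_sound L _ _ _ _ _ _ oconn2_4 i (by omega) (by omega)
  · exact checkOrbConnG_sound L _ _ _ _ _ _ oconn2_5 i (by omega) (by omega)
  · exact checkOrbConnG_sound L _ _ _ _ _ _ oconn2_6 i (by omega) (by omega)
  · exact checkOrbConnG_sound L _ _ _ _ _ _ oconn2_7 i (by omega) (by omega)
  · exact checkOrbConnG_sound L _ _ _ _ _ _ oconn2_8 i (by omega) (by omega)
  · exact checkOrbConnG_sound L _ _ _ _ _ _ oconn2_9 i (by omega) (by omega)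
  · exact checkOrbConnG_sound L _ _ _ _ _ _ oconn2_10 i (by omega) (by omega)
  · exact checkOrbConnG_sound L _ _ _ _ _ _ oconn2_11 i (by omega) (by omega)
  · exact checkOrbConnG_sound L _ _ _ _ _ _ oconn2_12 i (by omega) (by omega)
  · exact checkOrbConnG_sound L _ _ _ _ _ _ oconn2_13 i (by omega) (by omega)
  · exact checkOrbConnG_sound L _ _ _ _ _ _ oconn2_14 i (by omega) (by omega)
  · exact checkOrbConnG_sound L _ _ _ _ _ _ oconn2_15 i (by omega) (by omega)
  · exact checkOrbConnG_sound L _ _ _ _ _ _ oconn2_16 i (by omega) (by omega)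

theorem oconn2 : ∀ i < 8330, tb omask2 i = true → i ≠ 26 → ∃ ts ∈ sgT, tb omask2 (applyT 14 16384 ts i) = true ∧
    lk 14 16384 hr (applyT 14 16384 ts i) < lk 14 16384 hr i := by
  intro i hi hb hp
  obtain ⟨ts, hts, h1, h2⟩ := oconnL2 i hi hb hp
  simp only [L_eq, applyL_eq] at h1 h2
  exact ⟨ts, hts, h1, h2⟩

theorem oclosedL3 : ∀ i < 8330, tb omask3 i = true → ∀ ts ∈ sgT, tb omask3 (applyTG L ts i) = true := by
  intro i hi
  have hc : i / 500 < 17 := by omega
  interval_cases hq : i / 500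
  · exact checkClosedG_sound L _ _ _ _ oclosed3_0 i (by omega) (by omega)
  · exact checkClosedG_sound L _ _ _ _ oclosed3_1 i (by omega) (by omega)
  · exact checkClosedG_sound L _ _ _ _ oclosed3_2 i (by omega) (by omega)
  · exact checkClosedG_sound L _ _ _ _ oclosed3_3 i (by omega) (by omega)
  · exact checkClosedG_sound L _ _ _ _ oclosed3_4 i (by omega) (by omega)
  · exact checkClosedG_sound L _ _ _ _ oclosed3_5 i (by omega) (by omega)
  · exact checkClosedG_sound L _ _ _ _ oclosed3_6 i (by omega) (by omega)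
  · exact checkClosedG_sound L _ _ _ _ oclosed3_7 i (by omega) (by omega)
  · exact checkClosedG_sound L _ _ _ _ oclosed3_8 i (by omega) (by omega)
  · exact checkClosedG_sound L _ _ _ _ oclosed3_9 i (by omega) (by omega)
  · exact checkClosedG_sound L _ _ _ _ oclosed3_10 i (by omega) (by omega)
  · exact checkClosedG_sound L _ _ _ _ oclosed3_11 i (by omega) (by omega)
  · exact checkClosedG_sound L _ _ _ _ oclosed3_12 i (by omega) (by omega)
  · exact checkClosedG_sound L _ _ _ _ oclosed3_13 i (by omega) (by omega)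
  · exact checkClosedG_sound L _ _ _ _ oclosed3_14 i (by omega) (by omega)
  · exact checkClosedG_sound L _ _ _ _ oclosed3_15 i (by omega) (by omega)
  · exact checkClosedG_sound L _ _ _ _ oclosed3_16 i (by omega) (by omega)

theorem oclosed3 : ∀ i < 8330, tb omask3 i = true → ∀ ts ∈ sgT, tb omask3 (applyT 14 16384 ts i) = true := by
  intro i hi hb ts hts
  have := oclosedL3 i hi hb ts hts
  rw [applyL_eq] at this
  exact this

theorem oconnL3 : ∀ i < 8330, tb omask3 i = true → i ≠ 173 → ∃ ts ∈ sgT, tb omask3 (applyTG L ts i) = true ∧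
    L hr (applyTG L ts i) < L hr i := by
  intro i hi
  have hc : i / 500 < 17 := by omega
  interval_cases hq : i / 500
  · exact checkOrbConnG_sound L _ _ _ _ _ _ oconn3_0 i (by omega) (by omega)
  · exact checkOrbConnG_sound L _ _ _ _ _ _ oconn3_1 i (by omega) (by omega)
  · exact checkOrbConnG_sound L _ _ _ _ _ _ oconn3_2 i (by omega) (by omega)
  · exact checkOrbConnG_sound L _ _ _ _ _ _ oconn3_3 i (by omega) (by omega)
  · exact checkOrbConnG_sound L _ _ _ _ _ _ oconn3_4 i (by omega) (by omega)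
  · exact checkOrbConnG_sound L _ _ _ _ _ _ oconn3_5 i (by omega) (by omega)
  · exact checkOrbConnG_sound L _ _ _ _ _ _ oconn3_6 i (by omega) (by omega)
  · exact checkOrbConnG_sound L _ _ _ _ _ _ oconn3_7 i (by omega) (by omega)
  · exact checkOrbConnG_sound L _ _ _ _ _ _ oconn3_8 i (by omega) (by omega)
  · exact checkOrbConnG_sound L _ _ _ _ _ _ oconn3_9 i (by omega) (by omega)
  · exact checkOrbConnG_sound L _ _ _ _ _ _ oconn3_10 i (by omega) (by omega)
  · exact checkOrbConnG_sound L _ _ _ _ _ _ oconn3_11 i (by omega) (by omega)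
  · exact checkOrbConnG_sound L _ _ _ _ _ _ oconn3_12 i (by omega) (by omega)
  · exact checkOrbConnG_sound L _ _ _ _ _ _ oconn3_13 i (by omega) (by omega)
  · exact checkOrbConnG_sound L _ _ _ _ _ _ oconn3_14 i (by omega) (by omega)
  · exact checkOrbConnG_sound L _ _ _ _ _ _ oconn3_15 i (by omega) (by omega)
  · exact checkOrbConnG_sound L _ _ _ _ _ _ oconn3_16 i (by omega) (by omega)

theorem oconn3 : ∀ i < 8330, tb omask3 i = true → i ≠ 173 → ∃ ts ∈ sgT, tb omask3 (applyT 14 16384 ts i) = true ∧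
    lk 14 16384 hr (applyT 14 16384 ts i) < lk 14 16384 hr i := by
  intro i hi hb hp
  obtain ⟨ts, hts, h1, h2⟩ := oconnL3 i hi hb hp
  simp only [L_eq, applyL_eq] at h1 h2
  exact ⟨ts, hts, h1, h2⟩

theorem oclosedL4 : ∀ i < 8330, tb omask4 i = true → ∀ ts ∈ sgT, tb omask4 (applyTG L ts i) = true := by
  intro i hi
  have hc : i / 500 < 17 := by omega
  interval_cases hq : i / 500
  · exact checkClosedG_sound L _ _ _ _ oclosed4_0 i (by omega) (by omega)
  · exact checkClosedG_sound L _ _ _ _ oclosed4_1 i (by omega) (by omega)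
  · exact checkClosedG_sound L _ _ _ _ oclosed4_2 i (by omega) (by omega)
  · exact checkClosedG_sound L _ _ _ _ oclosed4_3 i (by omega) (by omega)
  · exact checkClosedG_sound L _ _ _ _ oclosed4_4 i (by omega) (by omega)
  · exact checkClosedG_sound L _ _ _ _ oclosed4_5 i (by omega) (by omega)
  · exact checkClosedG_sound L _ _ _ _ oclosed4_6 i (by omega) (by omega)
  · exact checkClosedG_sound L _ _ _ _ oclosed4_7 i (by omega) (by omega)
  · exact checkClosedG_sound L _ _ _ _ oclosed4_8 i (by omega) (by omega)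
  · exact checkClosedG_sound L _ _ _ _ oclosed4_9 i (by omega) (by omega)
  · exact checkClosedG_sound L _ _ _ _ oclosed4_10 i (by omega) (by omega)
  · exact checkClosedG_sound L _ _ _ _ oclosed4_11 i (by omega) (by omega)
  · exact checkClosedG_sound L _ _ _ _ oclosed4_12 i (by omega) (by omega)
  · exact checkClosedG_sound L _ _ _ _ oclosed4_13 i (by omega) (by omega)
  · exact checkClosedG_sound L _ _ _ _ oclosed4_14 i (by omega) (by omega)
  · exact checkClosedG_sound L _ _ _ _ oclosed4_15 i (by omega) (by omega)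
  · exact checkClosedG_sound L _ _ _ _ oclosed4_16 i (by omega) (by omega)

theorem oclosed4 : ∀ i < 8330, tb omask4 i = true → ∀ ts ∈ sgT, tb omask4 (applyT 14 16384 ts i) = true := by
  intro i hi hb ts hts
  have := oclosedL4 i hi hb ts hts
  rw [applyL_eq] at this
  exact this

theorem oconnL4 : ∀ i < 8330, tb omask4 i = true → i ≠ 37 → ∃ ts ∈ sgT, tb omask4 (applyTG L ts i) = true ∧
    L hr (applyTG L ts i) < L hr i := by
  intro i hi
  have hc : i / 500 < 17 := by omega
  interval_cases hq : i / 500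
  · exact checkOrbConnG_sound L _ _ _ _ _ _ oconn4_0 i (by omega) (by omega)
  · exact checkOrbConnG_sound L _ _ _ _ _ _ oconn4_1 i (by omega) (by omega)
  · exact checkOrbConnG_sound L _ _ _ _ _ _ oconn4_2 i (by omega) (by omega)
  · exact checkOrbConnG_sound L _ _ _ _ _ _ oconn4_3 i (by omega) (by omega)
  · exact checkOrbConnG_sound L _ _ _ _ _ _ oconn4_4 i (by omega) (by omega)
  · exact checkOrbConnG_sound L _ _ _ _ _ _ oconn4_5 i (by omega) (by omega)
  · exact checkOrbConnG_sound L _ _ _ _ _ _ oconn4_6 i (by omega) (by omega)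
  · exact checkOrbConnG_sound L _ _ _ _ _ _ oconn4_7 i (by omega) (by omega)
  · exact checkOrbConnG_sound L _ _ _ _ _ _ oconn4_8 i (by omega) (by omega)
  · exact checkOrbConnG_sound L _ _ _ _ _ _ oconn4_9 i (by omega) (by omega)
  · exact checkOrbConnG_sound L _ _ _ _ _ _ oconn4_10 i (by omega) (by omega)
  · exact checkOrbConnG_sound L _ _ _ _ _ _ oconn4_11 i (by omega) (by omega)
  · exact checkOrbConnG_sound L _ _ _ _ _ _ oconn4_12 i (by omega) (by omega)
  · exact checkOrbConnG_sound L _ _ _ _ _ _ oconn4_13 i (by omega) (by omega)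
  · exact checkOrbConnG_sound L _ _ _ _ _ _ oconn4_14 i (by omega) (by omega)
  · exact checkOrbConnG_sound L _ _ _ _ _ _ oconn4_15 i (by omega) (by omega)
  · exact checkOrbConnG_sound L _ _ _ _ _ _ oconn4_16 i (by omega) (by omega)

theorem oconn4 : ∀ i < 8330, tb omask4 i = true → i ≠ 37 → ∃ ts ∈ sgT, tb omask4 (applyT 14 16384 ts i) = true ∧
    lk 14 16384 hr (applyT 14 16384 ts i) < lk 14 16384 hr i := by
  intro i hi hb hp
  obtain ⟨ts, hts, h1, h2⟩ := oconnL4 i hi hb hp
  simp only [L_eq, applyL_eq] at h1 h2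
  exact ⟨ts, hts, h1, h2⟩

theorem oclosedL5 : ∀ i < 8330, tb omask5 i = true → ∀ ts ∈ sgT, tb omask5 (applyTG L ts i) = true := by
  intro i hi
  have hc : i / 500 < 17 := by omega
  interval_cases hq : i / 500
  · exact checkClosedG_sound L _ _ _ _ oclosed5_0 i (by omega) (by omega)
  · exact checkClosedG_sound L _ _ _ _ oclosed5_1 i (by omega) (by omega)
  · exact checkClosedG_sound L _ _ _ _ oclosed5_2 i (by omega) (by omega)
  · exact checkClosedG_sound L _ _ _ _ oclosed5_3 i (by omega) (by omega)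
  · exact checkClosedG_sound L _ _ _ _ oclosed5_4 i (by omega) (by omega)
  · exact checkClosedG_sound L _ _ _ _ oclosed5_5 i (by omega) (by omega)
  · exact checkClosedG_sound L _ _ _ _ oclosed5_6 i (by omega) (by omega)
  · exact checkClosedG_sound L _ _ _ _ oclosed5_7 i (by omega) (by omega)
  · exact checkClosedG_sound L _ _ _ _ oclosed5_8 i (by omega) (by omega)
  · exact checkClosedG_sound L _ _ _ _ oclosed5_9 i (by omega) (by omega)
  · exact checkClosedG_sound L _ _ _ _ oclosed5_10 i (by omega) (by omega)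
  · exact checkClosedG_sound L _ _ _ _ oclosed5_11 i (by omega) (by omega)
  · exact checkClosedG_sound L _ _ _ _ oclosed5_12 i (by omega) (by omega)
  · exact checkClosedG_sound L _ _ _ _ oclosed5_13 i (by omega) (by omega)
  · exact checkClosedG_sound L _ _ _ _ oclosed5_14 i (by omega) (by omega)
  · exact checkClosedG_sound L _ _ _ _ oclosed5_15 i (by omega) (by omega)
  · exact checkClosedG_sound L _ _ _ _ oclosed5_16 i (by omega) (by omega)

theorem oclosed5 : ∀ i < 8330, tb omask5 i = true → ∀ ts ∈ sgT, tb omask5 (applyT 14 16384 ts i) = true := by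
  intro i hi hb ts hts
  have := oclosedL5 i hi hb ts hts
  rw [applyL_eq] at this
  exact this

theorem oconnL5 : ∀ i < 8330, tb omask5 i = true → i ≠ 168 → ∃ ts ∈ sgT, tb omask5 (applyTG L ts i) = true ∧
    L hr (applyTG L ts i) < L hr i := by
  intro i hi
  have hc : i / 500 < 17 := by omega
  interval_cases hq : i / 500
  · exact checkOrbConnG_sound L _ _ _ _ _ _ oconn5_0 i (by omega) (by omega)
  · exact checkOrbConnG_sound L _ _ _ _ _ _ oconn5_1 i (by omega) (by omega)
  · exact checkOrbConnG_sound L _ _ _ _ _ _ oconn5_2 i (by omega) (by omega)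
  · exact checkOrbConnG_sound L _ _ _ _ _ _ oconn5_3 i (by omega) (by omega)
  · exact checkOrbConnG_sound L _ _ _ _ _ _ oconn5_4 i (by omega) (by omega)
  · exact checkOrbConnG_sound L _ _ _ _ _ _ oconn5_5 i (by omega) (by omega)
  · exact checkOrbConnG_sound L _ _ _ _ _ _ oconn5_6 i (by omega) (by omega)
  · exact checkOrbConnG_sound L _ _ _ _ _ _ oconn5_7 i (by omega) (by omega)
  · exact checkOrbConnG_sound L _ _ _ _ _ _ oconn5_8 i (by omega) (by omega)
  · exact checkOrbConnG_sound L _ _ _ _ _ _ oconn5_9 i (by omega) (by omega)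
  · exact checkOrbConnG_sound L _ _ _ _ _ _ oconn5_10 i (by omega) (by omega)
  · exact checkOrbConnG_sound L _ _ _ _ _ _ oconn5_11 i (by omega) (by omega)
  · exact checkOrbConnG_sound L _ _ _ _ _ _ oconn5_12 i (by omega) (by omega)
  · exact checkOrbConnG_sound L _ _ _ _ _ _ oconn5_13 i (by omega) (by omega)
  · exact checkOrbConnG_sound L _ _ _ _ _ _ oconn5_14 i (by omega) (by omega)
  · exact checkOrbConnG_sound L _ _ _ _ _ _ oconn5_15 i (by omega) (by omega)
  · exact checkOrbConnG_sound L _ _ _ _ _ _ oconn5_16 i (by omega) (by omega)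

theorem oconn5 : ∀ i < 8330, tb omask5 i = true → i ≠ 168 → ∃ ts ∈ sgT, tb omask5 (applyT 14 16384 ts i) = true ∧
    lk 14 16384 hr (applyT 14 16384 ts i) < lk 14 16384 hr i := by
  intro i hi hb hp
  obtain ⟨ts, hts, h1, h2⟩ := oconnL5 i hi hb hp
  simp only [L_eq, applyL_eq] at h1 h2
  exact ⟨ts, hts, h1, h2⟩

/-- the images of the subgroup generators -/
abbrev S' : Set G := PresentedGroup.mk rels '' S

theorem H_eq : H = Subgroup.closure S' := MonoidHom.map_closure _ _

theorem sgT_eq : sgT = [(sgL0.map Prod.fst).map tabOf, (sgL1.map Prod.fst).map tabOf, (sgL2.map Prod.fst).map tabOf, (sgL3.map Prod.fst).map tabOf, (sgL4.map Prod.fst).map tabOf, (sgL5.map Prod.fst).map tabOf, (sgL6.map Prod.fst).map tabOf, (sgL7.map Prod.fst).map tabOf] := by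
  rfl

theorem good_sgT : ∀ ts ∈ sgT, ∀ t ∈ ts, Good 14 16384 8330 t := by
  intro ts hts
  rw [sgT_eq] at hts
  simp only [List.mem_cons, List.not_mem_nil, or_false] at hts
  rcases hts with rfl | rfl | rfl | rfl | rfl | rfl | rfl | rfl <;> exact good_of_letters _

theorem S'_words : ∀ s ∈ S', ∃ ts ∈ sgT, φ s = (ts.map (σ 14 16384 8330)).prod := by
  rintro _ ⟨s, hs, rfl⟩
  simp only [S, Set.mem_insert_iff, Set.mem_singleton_iff] at hs
  rcases hs with rfl | rfl | rfl | rfl | rfl | rfl | rfl | rfl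
  · exact ⟨sgT0, by simp [sgT], by rw [sg0_eq, φ_mk]; rfl⟩
  · exact ⟨sgT1, by simp [sgT], by rw [sg1_eq, φ_mk]; rfl⟩
  · exact ⟨sgT2, by simp [sgT], by rw [sg2_eq, φ_mk]; rfl⟩
  · exact ⟨sgT3, by simp [sgT], by rw [sg3_eq, φ_mk]; rfl⟩
  · exact ⟨sgT4, by simp [sgT], by rw [sg4_eq, φ_mk]; rfl⟩
  · exact ⟨sgT5, by simp [sgT], by rw [sg5_eq, φ_mk]; rfl⟩
  · exact ⟨sgT6, by simp [sgT], by rw [sg6_eq, φ_mk]; rfl⟩
  · exact ⟨sgT7, by simp [sgT], by rw [sg7_eq, φ_mk]; rfl⟩

theorem words_S' : ∀ ts ∈ sgT, ∃ s ∈ S', φ s = (ts.map (σ 14 16384 8330)).prod := by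
  intro ts hts
  obtain ⟨k, hk, rfl⟩ := List.getElem_of_mem hts
  have hk' : k < 8 := hk
  interval_cases k
  · exact ⟨_, ⟨_, sg0_mem, rfl⟩, by rw [sg0_eq, φ_mk]; rfl⟩
  · exact ⟨_, ⟨_, sg1_mem, rfl⟩, by rw [sg1_eq, φ_mk]; rfl⟩
  · exact ⟨_, ⟨_, sg2_mem, rfl⟩, by rw [sg2_eq, φ_mk]; rfl⟩
  · exact ⟨_, ⟨_, sg3_mem, rfl⟩, by rw [sg3_eq, φ_mk]; rfl⟩
  · exact ⟨_, ⟨_, sg4_mem, rfl⟩, by rw [sg4_eq, φ_mk]; rfl⟩
  · exact ⟨_, ⟨_, sg5_mem, rfl⟩, by rw [sg5_eq, φ_mk]; rfl⟩
  · exact ⟨_, ⟨_, sg6_mem, rfl⟩, by rw [sg6_eq, φ_mk]; rfl⟩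
  · exact ⟨_, ⟨_, sg7_mem, rfl⟩, by rw [sg7_eq, φ_mk]; rfl⟩

/-- orbit 0 -/
theorem orbit0 : ∃ q : G ⧸ H, ptOf H φ z φ_H q = ⟨8, by decide⟩ ∧
    ptOf H φ z φ_H '' (MulAction.orbit H q) = {i : Fin 8330 | tb omask0 i = true} ∧
    (MulAction.orbit H q).ncard = 105 := by
  obtain ⟨g, hg⟩ := φ_trans ⟨8, by decide⟩
  refine ⟨(g : G ⧸ H), hg, ?_⟩
  have himg : ptOf H φ z φ_H '' (MulAction.orbit H (g : G ⧸ H)) =
      {i : Fin 8330 | tb omask0 i = true} := by
    rw [ptOf_image_orbit, ptOf_mk, hg, H_eq]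
    exact orbit_eq_mask' 14 16384 8330 φ S' omask0 hr ⟨8, by decide⟩ sgT good_sgT S'_words words_S'
      obase0 oclosed0 oconn0
  refine ⟨himg, ?_⟩
  rw [← Set.ncard_image_of_injective _ (ptOf_injective H φ z φ_H index_and_stab.2), himg,
    ncard_mask, ocount0]

/-- orbit 1 -/
theorem orbit1 : ∃ q : G ⧸ H, ptOf H φ z φ_H q = ⟨1, by decide⟩ ∧
    ptOf H φ z φ_H '' (MulAction.orbit H q) = {i : Fin 8330 | tb omask1 i = true} ∧
    (MulAction.orbit H q).ncard = 720 := by
  obtain ⟨g, hg⟩ := φ_trans ⟨1, by decide⟩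
  refine ⟨(g : G ⧸ H), hg, ?_⟩
  have himg : ptOf H φ z φ_H '' (MulAction.orbit H (g : G ⧸ H)) =
      {i : Fin 8330 | tb omask1 i = true} := by
    rw [ptOf_image_orbit, ptOf_mk, hg, H_eq]
    exact orbit_eq_mask' 14 16384 8330 φ S' omask1 hr ⟨1, by decide⟩ sgT good_sgT S'_words words_S'
      obase1 oclosed1 oconn1
  refine ⟨himg, ?_⟩
  rw [← Set.ncard_image_of_injective _ (ptOf_injective H φ z φ_H index_and_stab.2), himg,
    ncard_mask, ocount1]

/-- orbit 2 -/
theorem orbit2 : ∃ q : G ⧸ H, ptOf H φ z φ_H q = ⟨26, by decide⟩ ∧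
    ptOf H φ z φ_H '' (MulAction.orbit H q) = {i : Fin 8330 | tb omask2 i = true} ∧
    (MulAction.orbit H q).ncard = 840 := by
  obtain ⟨g, hg⟩ := φ_trans ⟨26, by decide⟩
  refine ⟨(g : G ⧸ H), hg, ?_⟩
  have himg : ptOf H φ z φ_H '' (MulAction.orbit H (g : G ⧸ H)) =
      {i : Fin 8330 | tb omask2 i = true} := by
    rw [ptOf_image_orbit, ptOf_mk, hg, H_eq]
    exact orbit_eq_mask' 14 16384 8330 φ S' omask2 hr ⟨26, by decide⟩ sgT good_sgT S'_words words_S'
      obase2 oclosed2 oconn2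
  refine ⟨himg, ?_⟩
  rw [← Set.ncard_image_of_injective _ (ptOf_injective H φ z φ_H index_and_stab.2), himg,
    ncard_mask, ocount2]

/-- orbit 3 -/
theorem orbit3 : ∃ q : G ⧸ H, ptOf H φ z φ_H q = ⟨173, by decide⟩ ∧
    ptOf H φ z φ_H '' (MulAction.orbit H q) = {i : Fin 8330 | tb omask3 i = true} ∧
    (MulAction.orbit H q).ncard = 840 := by
  obtain ⟨g, hg⟩ := φ_trans ⟨173, by decide⟩
  refine ⟨(g : G ⧸ H), hg, ?_⟩
  have himg : ptOf H φ z φ_H '' (MulAction.orbit H (g : G ⧸ H)) =
      {i : Fin 8330 | tb omask3 i = true} := by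
    rw [ptOf_image_orbit, ptOf_mk, hg, H_eq]
    exact orbit_eq_mask' 14 16384 8330 φ S' omask3 hr ⟨173, by decide⟩ sgT good_sgT S'_words words_S'
      obase3 oclosed3 oconn3
  refine ⟨himg, ?_⟩
  rw [← Set.ncard_image_of_injective _ (ptOf_injective H φ z φ_H index_and_stab.2), himg,
    ncard_mask, ocount3]

/-- orbit 4 -/
theorem orbit4 : ∃ q : G ⧸ H, ptOf H φ z φ_H q = ⟨37, by decide⟩ ∧
    ptOf H φ z φ_H '' (MulAction.orbit H q) = {i : Fin 8330 | tb omask4 i = true} ∧
    (MulAction.orbit H q).ncard = 1344 := by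
  obtain ⟨g, hg⟩ := φ_trans ⟨37, by decide⟩
  refine ⟨(g : G ⧸ H), hg, ?_⟩
  have himg : ptOf H φ z φ_H '' (MulAction.orbit H (g : G ⧸ H)) =
      {i : Fin 8330 | tb omask4 i = true} := by
    rw [ptOf_image_orbit, ptOf_mk, hg, H_eq]
    exact orbit_eq_mask' 14 16384 8330 φ S' omask4 hr ⟨37, by decide⟩ sgT good_sgT S'_words words_S'
      obase4 oclosed4 oconn4
  refine ⟨himg, ?_⟩
  rw [← Set.ncard_image_of_injective _ (ptOf_injective H φ z φ_H index_and_stab.2), himg,
    ncard_mask, ocount4]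

/-- orbit 5 -/
theorem orbit5 : ∃ q : G ⧸ H, ptOf H φ z φ_H q = ⟨168, by decide⟩ ∧
    ptOf H φ z φ_H '' (MulAction.orbit H q) = {i : Fin 8330 | tb omask5 i = true} ∧
    (MulAction.orbit H q).ncard = 4480 := by
  obtain ⟨g, hg⟩ := φ_trans ⟨168, by decide⟩
  refine ⟨(g : G ⧸ H), hg, ?_⟩
  have himg : ptOf H φ z φ_H '' (MulAction.orbit H (g : G ⧸ H)) =
      {i : Fin 8330 | tb omask5 i = true} := by
    rw [ptOf_image_orbit, ptOf_mk, hg, H_eq]
    exact orbit_eq_mask' 14 16384 8330 φ S' omask5 hr ⟨168, by decide⟩ sgT good_sgT S'_words words_S'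
      obase5 oclosed5 oconn5
  refine ⟨himg, ?_⟩
  rw [← Set.ncard_image_of_injective _ (ptOf_injective H φ z φ_H index_and_stab.2), himg,
    ncard_mask, ocount5]

end Cfsg.Agent.Lib.H17.HeN22
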