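import Cfsg.Agent.Lib.H17.HeN22.Tables

set_option autoImplicit false
set_option maxRecDepth 100000

/-! # Table checks for HeN22, part 0 (generated) -/

namespace Cfsg.Agent.Lib.H17.HeN22

open Cfsg.Spor Cfsg.Agent.Lib.H17.CosetCert Cfsg.Agent.Lib.H17.CoxGlue Cfsg.Agent.Lib.H17.HeGlue

theorem rngR0 : tabs.all (fun t => checkRangeG L t 8330 0 500) = true := by
  decide +kernel

theorem relR0 : relT.all (fun ts => checkWordG L ts 0 500) = true := by
  decide +kernel

theorem connR0 : checkConnG L gr tabs 0 500 = true := by
  decide +kernel

theorem rngR1 : tabs.all (fun t => checkRangeG L t 8330 500 500) = true := by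
  decide +kernel

theorem relR1 : relT.all (fun ts => checkWordG L ts 500 500) = true := by
  decide +kernel

theorem connR1 : checkConnG L gr tabs 500 500 = true := by
  decide +kernel

theorem rngR2 : tabs.all (fun t => checkRangeG L t 8330 1000 500) = true := by
  decide +kernel

theorem relR2 : relT.all (fun ts => checkWordG L ts 1000 500) = true := by
  decide +kernel

theorem connR2 : checkConnG L gr tabs 1000 500 = true := by
  decide +kernel

theorem rngR3 : tabs.all (fun t => checkRangeG L t 8330 1500 500) = true := by
  decide +kernel

theorem relR3 : relT.all (fun ts => checkWordG L ts 1500 500) = true := by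
  decide +kernel

theorem connR3 : checkConnG L gr tabs 1500 500 = true := by
  decide +kernel

theorem rngR4 : tabs.all (fun t => checkRangeG L t 8330 2000 500) = true := by
  decide +kernel

theorem relR4 : relT.all (fun ts => checkWordG L ts 2000 500) = true := by
  decide +kernel

theorem connR4 : checkConnG L gr tabs 2000 500 = true := by
  decide +kernel

theorem rngR5 : tabs.all (fun t => checkRangeG L t 8330 2500 500) = true := by
  decide +kernel

theorem relR5 : relT.all (fun ts => checkWordG L ts 2500 500) = true := by
  decide +kernel

theorem connR5 : checkConnG L gr tabs 2500 500 = true := by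
  decide +kernel

theorem rngR6 : tabs.all (fun t => checkRangeG L t 8330 3000 500) = true := by
  decide +kernel

theorem relR6 : relT.all (fun ts => checkWordG L ts 3000 500) = true := by
  decide +kernel

theorem connR6 : checkConnG L gr tabs 3000 500 = true := by
  decide +kernel

theorem rngR7 : tabs.all (fun t => checkRangeG L t 8330 3500 500) = true := by
  decide +kernel

theorem relR7 : relT.all (fun ts => checkWordG L ts 3500 500) = true := by
  decide +kernel

theorem connR7 : checkConnG L gr tabs 3500 500 = true := by
  decide +kernel

end Cfsg.Agent.Lib.H17.HeN22
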